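import Groth.Agent.StrictLift.Local
import Groth.Agent.ModFac.Basic
import Mathlib.Algebra.Homology.Homotopy

/-!
# Maps out of strictly perfect complexes lift locally up to homotopy
-/

set_option linter.style.haveILetI false
set_option backward.isDefEq.respectTransparency false
set_option backward.isDefEq.respectTransparency.types false

universe u

open CategoryTheory CategoryTheory.Limits Opposite

namespace Groth.Agent.StrictLift

open Groth.Agent.SuppCore

variable {C : Type u} [SmallCategory C] {J : GrothendieckTopology C} {O : Sheaf J CommRingCat.{u}}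

/-- The unit section. -/
noncomputable def one (O : Sheaf J CommRingCat.{u}) (W : C) : ModSite.sect (ModSite.unit O) W :=
  (1 : (ModSite.ringSh O).obj.obj (op W))

lemma res_one {W' W : C} (g : W' ⟶ W) : res (ModSite.unit O) g (one O W) = one O W' :=
  map_one ((ModSite.ringSh O).obj.map g.op).hom

section Ev

variable {X : ModSite.Mod O} {n : ℕ} (c : Fin n → (X ⟶ ModSite.unit O))

/-- The evaluation of the linear map given by values on generators. -/
noncomputable def ev {M : ModSite.Mod O} {W W' : C} (t : Fin n → ModSite.sect M W) (g : W' ⟶ W)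
    (x : ModSite.sect X W') : ModSite.sect M W' :=
  ∑ l, (show (ModSite.ringSh O).obj.obj (op W') from ap (c l) W' x) • res M g (t l)

variable {M N : ModSite.Mod O} {W W' W'' : C}

lemma ev_add (t : Fin n → ModSite.sect M W) (g : W' ⟶ W) (x y : ModSite.sect X W') :
    ev c t g (x + y) = ev c t g x + ev c t g y := by
  simp only [ev, ← Finset.sum_add_distrib]
  refine Finset.sum_congr rfl fun l _ => ?_
  refine Eq.trans ?_ (add_smul _ _ _)
  exact congrArg (fun r : (ModSite.ringSh O).obj.obj (op W') => r • res M g (t l)) (map_add (ap (c l) W') x y)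

lemma ev_zero_arg (t : Fin n → ModSite.sect M W) (g : W' ⟶ W) : ev c t g 0 = 0 := by
  have h := ev_add c t g 0 0
  rw [add_zero] at h
  exact left_eq_add.mp h

lemma ev_smul (t : Fin n → ModSite.sect M W) (g : W' ⟶ W) (r : (ModSite.ringSh O).obj.obj (op W'))
    (x : ModSite.sect X W') : ev c t g (r • x) = r • ev c t g x := by
  simp only [ev, Finset.smul_sum, smul_smul]
  refine Finset.sum_congr rfl fun l _ => ?_
  exact congrArg (fun s : (ModSite.ringSh O).obj.obj (op W') => s • res M g (t l)) (ap_smul (c l) W' r x)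

lemma ev_sum {κ : Type*} (s : Finset κ) (t : Fin n → ModSite.sect M W) (g : W' ⟶ W) (x : κ → ModSite.sect X W') :
    ev c t g (∑ k ∈ s, x k) = ∑ k ∈ s, ev c t g (x k) :=
  map_sum (AddMonoidHom.mk' (ev c t g) (ev_add c t g)) x s

lemma res_ev (t : Fin n → ModSite.sect M W) (g : W' ⟶ W) (h : W'' ⟶ W') (x : ModSite.sect X W') :
    res M h (ev c t g x) = ev c t (h ≫ g) (res X h x) := by
  simp only [ev, map_sum]
  refine Finset.sum_congr rfl fun l _ => ?_
  rw [res_smul, ← res_comp]
  exact congrArg (fun s : (ModSite.ringSh O).obj.obj (op W'') => s • res M (h ≫ g) (t l)) (res_ap (c l) h x)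

lemma ap_ev (φ : M ⟶ N) (t : Fin n → ModSite.sect M W) (g : W' ⟶ W) (x : ModSite.sect X W') :
    ap φ W' (ev c t g x) = ev c (fun l => ap φ W (t l)) g x := by
  simp only [ev, map_sum]
  exact Finset.sum_congr rfl fun l _ => by rw [ap_smul, res_ap]

lemma ev_res (t : Fin n → ModSite.sect M W) (g₀ : W' ⟶ W) (g : W'' ⟶ W') (x : ModSite.sect X W'') :
    ev c (fun l => res M g₀ (t l)) g x = ev c t (g ≫ g₀) x := by
  simp only [ev, res_comp]

lemma ev_add_fun (t t' : Fin n → ModSite.sect M W) (g : W' ⟶ W) (x : ModSite.sect X W') :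
    ev c (fun l => t l + t' l) g x = ev c t g x + ev c t' g x := by
  simp only [ev, ← Finset.sum_add_distrib, map_add, smul_add]

lemma ev_sub_fun (t t' : Fin n → ModSite.sect M W) (g : W' ⟶ W) (x : ModSite.sect X W') :
    ev c (fun l => t l - t' l) g x = ev c t g x - ev c t' g x := by
  simp only [ev, ← Finset.sum_sub_distrib, map_sub, smul_sub]

variable (e : Fin n → (ModSite.unit O ⟶ X)) (he : ∑ l, c l ≫ e l = 𝟙 X)

include he in
lemma sum_coord (x : ModSite.sect X W) :
    ∑ l, (show (ModSite.ringSh O).obj.obj (op W) from ap (c l) W x) • ap (e l) W (one O W) = x := by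
  refine Eq.trans ?_ (ap_id W x)
  rw [← he]
  refine Eq.trans (Finset.sum_congr rfl fun l _ => ?_)
    (map_sum (AddMonoidHom.mk' (fun φ : X ⟶ X => ap φ W x) (fun a b => ap_add a b W x)) _ _).symm
  refine (ap_smul (e l) W _ (one O W)).symm.trans ?_
  exact congrArg (ap (e l) W) (mul_one (show (ModSite.ringSh O).obj.obj (op W) from ap (c l) W x))

include he in
lemma ev_natural (φ : X ⟶ M) (g : W' ⟶ W) (x : ModSite.sect X W') :
    ev c (fun l => ap φ W (ap (e l) W (one O W))) g x = ap φ W' x := by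
  conv_rhs => rw [← sum_coord c e he x, map_sum]
  refine Finset.sum_congr rfl fun l _ => ?_
  rw [res_ap, res_ap, res_one, ap_smul]

include he in
lemma ev_ev {Y : ModSite.Mod O} {m : ℕ} (c' : Fin m → (Y ⟶ ModSite.unit O)) (φ : X ⟶ Y)
    (t : Fin m → ModSite.sect M W) (g : W' ⟶ W) (x : ModSite.sect X W') :
    ev c (fun l => ev c' t (𝟙 W) (ap φ W (ap (e l) W (one O W)))) g x = ev c' t g (ap φ W' x) := by
  conv_rhs => rw [← sum_coord c e he x, map_sum, ev_sum]
  refine Finset.sum_congr rfl fun l _ => ?_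
  rw [ap_smul, ev_smul, res_ev, Category.comp_id, res_ap, res_ap, res_one]

end Ev

variable {E F G : CochainComplex (ModSite.Mod O) ℤ} (α : E ⟶ F) (f : G ⟶ F) {n : ℤ → ℕ}
  (c : ∀ i, Fin (n i) → (E.X i ⟶ ModSite.unit O))

/-- A partial lift up to homotopy above a degree, on an object. -/
def Good (k : ℤ) (W : C) : Prop :=
  ∃ (p : ∀ i, Fin (n i) → ModSite.sect (G.X i) W) (q : ∀ i j, Fin (n i) → ModSite.sect (F.X j) W),
    ∀ i, k ≤ i → ∀ ⦃W' : C⦄ (g : W' ⟶ W) (x : ModSite.sect (E.X i) W'),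
      ap (G.d i (i + 1)) W' (ev (c i) (p i) g x) = ev (c (i + 1)) (p (i + 1)) g (ap (E.d i (i + 1)) W' x) ∧
      ap (f.f i) W' (ev (c i) (p i) g x) + ap (F.d (i - 1) i) W' (ev (c i) (q i (i - 1)) g x) +
        ev (c (i + 1)) (q (i + 1) i) g (ap (E.d i (i + 1)) W' x) = ap (α.f i) W' x

lemma eq_zero_of_isZero {X : ModSite.Mod O} (h : IsZero X) {W : C} (x : ModSite.sect X W) : x = 0 := by
  rw [← ap_id W x, h.eq_of_src (𝟙 X) 0, ap_zero]

lemma good_of_isZero {k : ℤ} (hk : ∀ i, k ≤ i → IsZero (E.X i)) (W : C) : Good α f c k W := by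
  refine ⟨fun i l => 0, fun i j l => 0, fun i hi W' g x => ?_⟩
  rw [eq_zero_of_isZero (hk i hi) x, map_zero, ev_zero_arg, ev_zero_arg, ev_zero_arg, ev_zero_arg,
    map_zero, map_zero, map_zero, map_zero]
  simp

variable (e : ∀ i, Fin (n i) → (ModSite.unit O ⟶ E.X i)) (he : ∀ i, ∑ l, c i l ≫ e i l = 𝟙 (E.X i))

include he in
theorem good_step (k : ℤ) [Epi (HomologicalComplex.homologyMap f k)]
    [Mono (HomologicalComplex.homologyMap f (k + 1))] (W : C) (h : Good α f c (k + 1) W) :
    ∃ R ∈ J W, ∀ ⦃W' : C⦄ (g : W' ⟶ W), R g → Good α f c k W' := by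
  classical
  obtain ⟨p, q, hpq⟩ := h
  let u : Fin (n k) → ModSite.sect (G.X (k + 1)) W := fun l =>
    ev (c (k + 1)) (p (k + 1)) (𝟙 W) (ap (E.d k (k + 1)) W (ap (e k l) W (one O W)))
  let v : Fin (n k) → ModSite.sect (F.X k) W := fun l =>
    ev (c (k + 1)) (q (k + 1) k) (𝟙 W) (ap (E.d k (k + 1)) W (ap (e k l) W (one O W)))
  let w : Fin (n k) → ModSite.sect (F.X k) W := fun l => ap (α.f k) W (ap (e k l) W (one O W)) - v l
  have hu : ∀ l, ap (G.d (k + 1) (k + 1 + 1)) W (u l) = 0 := fun l => by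
    rw [(hpq (k + 1) le_rfl (𝟙 W) _).1, ← ap_comp (E.d k (k + 1)), E.d_comp_d, ap_zero, ev_zero_arg]
  have hw : ∀ l, ap (f.f (k + 1)) W (u l) = ap (F.d k (k + 1)) W (w l) := fun l => by
    have h2 := (hpq (k + 1) le_rfl (𝟙 W) (ap (E.d k (k + 1)) W (ap (e k l) W (one O W)))).2
    rw [← ap_comp (E.d k (k + 1)) (E.d (k + 1) _), E.d_comp_d, ap_zero, ev_zero_arg, add_zero,
      ← ap_comp (E.d k (k + 1)) (α.f (k + 1)), ← α.comm, ap_comp] at h2
    rw [show k + 1 - 1 = k by lia] at h2
    rw [map_sub, ← h2]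
    exact (add_sub_cancel_right _ _).symm
  choose R hR hloc using fun l => local_step f (l := k - 1) (m := k) (n := k + 1) (by lia) rfl rfl (u l) (w l) (hu l) (hw l)
  refine ⟨Finset.univ.inf R, Finset.inf_induction (p := fun S : Sieve W => S ∈ J W) (J.top_mem W)
    (fun a ha b hb => J.intersection_covering ha hb) (fun l _ => hR l), fun W' g₀ hg => ?_⟩
  have hl : ∀ l, (R l).arrows g₀ := fun l => by
    have h : Finset.univ.inf R ≤ R l := Finset.inf_le (Finset.mem_univ l)
    exact h _ hg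
  choose p₀ q₀ hp₀ hq₀ using fun l => hloc l g₀ (hl l)
  refine ⟨Function.update (fun i l => res (G.X i) g₀ (p i l)) k p₀,
    Function.update (fun i j l => res (F.X j) g₀ (q i j l)) k
      (Function.update (fun j l => res (F.X j) g₀ (q k j l)) (k - 1) q₀), fun i hi W'' g x => ?_⟩
  rw [Function.update_of_ne (show i + 1 ≠ k by lia), Function.update_of_ne (show i + 1 ≠ k by lia)]
  simp only [ev_res]
  rcases eq_or_lt_of_le hi with rfl | hlt
  · rw [Function.update_self, Function.update_self, Function.update_self]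
    refine ⟨?_, ?_⟩
    · rw [ap_ev, show (fun l => ap (G.d k (k + 1)) W' (p₀ l)) = fun l => res (G.X (k + 1)) g₀ (u l) from
        funext hp₀, ev_res]
      exact ev_ev (c k) (e k) (he k) (c (k + 1)) (E.d k (k + 1)) (p (k + 1)) _ x
    · rw [ap_ev, ap_ev, ← ev_add_fun, show (fun l => ap (f.f k) W' (p₀ l) + ap (F.d (k - 1) k) W' (q₀ l)) =
        fun l => res (F.X k) g₀ (w l) from funext hq₀, ev_res]
      rw [ev_sub_fun, ev_natural (c k) (e k) (he k),
        ev_ev (c k) (e k) (he k) (c (k + 1)) (E.d k (k + 1)) (q (k + 1) k) _ x, sub_add_cancel]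
  · rw [Function.update_of_ne (show i ≠ k by lia), Function.update_of_ne (show i ≠ k by lia)]
    simp only [ev_res]
    exact hpq i (by lia) (g ≫ g₀) x

include he in
theorem exists_good (a : ℤ) (hiso : ∀ j : ℤ, a < j → IsIso (HomologicalComplex.homologyMap f j))
    (hepi : Epi (HomologicalComplex.homologyMap f a)) {b : ℤ} (hb : ∀ i, b ≤ i → IsZero (E.X i)) (V : C) :
    ∃ R ∈ J V, ∀ ⦃W : C⦄ (g : W ⟶ V), R g → Good α f c a W := by
  let B := max a b
  suffices H : ∀ m : ℕ, a ≤ B - m → ∃ R ∈ J V, ∀ ⦃W : C⦄ (g : W ⟶ V), R g → Good α f c (B - m) W by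
    have hB : B - ((B - a).toNat : ℤ) = a := by lia
    have := H (B - a).toNat (by lia)
    rwa [hB] at this
  intro m
  induction m with
  | zero =>
    exact fun _ => ⟨⊤, J.top_mem V, fun W g _ => good_of_isZero α f c (fun i hi => hb i (by lia)) W⟩
  | succ m ih =>
    intro hm
    obtain ⟨R, hR, h⟩ := ih (by lia)
    have hk : B - (m : ℤ) = (B - ((m + 1 : ℕ) : ℤ)) + 1 := by lia
    haveI : Epi (HomologicalComplex.homologyMap f (B - ((m + 1 : ℕ) : ℤ))) := by
      rcases eq_or_lt_of_le hm with e | e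
      · rwa [← e]
      · haveI := hiso _ e
        infer_instance
    haveI : Mono (HomologicalComplex.homologyMap f (B - ((m + 1 : ℕ) : ℤ) + 1)) := by
      haveI := hiso (B - ((m + 1 : ℕ) : ℤ) + 1) (by lia)
      infer_instance
    choose S hS hgood using fun (W : C) (g : W ⟶ V) (hg : R g) =>
      good_step α f c e he (B - ((m + 1 : ℕ) : ℤ)) W (hk ▸ h g hg)
    refine ⟨Sieve.bind R.arrows (fun W g hg => S W g hg), J.bind_covering hR (fun W g hg => hS W g hg), ?_⟩
    rintro W' _ ⟨W, g', g, hg, hg', rfl⟩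
    exact hgood W g hg g' hg'

/-- The morphism of restrictions given by values on generators. -/
noncomputable def evHom {X M : ModSite.Mod O} {m : ℕ} (c : Fin m → (X ⟶ ModSite.unit O)) {W : C}
    (t : Fin m → ModSite.sect M W) : (ModSite.restr O W).obj X ⟶ (ModSite.restr O W).obj M :=
  ⟨{ app := fun Z => ModuleCat.ofHom
      { toFun := fun x => ev c t Z.unop.hom x
        map_add' := ev_add c t Z.unop.hom
        map_smul' := fun r x => ev_smul c t Z.unop.hom r x }
     naturality := fun {Z Z'} h => by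
      refine ModuleCat.hom_ext (LinearMap.ext fun x => ?_)
      show ev c t Z'.unop.hom (res X h.unop.left x) = res M h.unop.left (ev c t Z.unop.hom x)
      rw [res_ev, Over.w] }⟩

lemma ap_evHom {X M : ModSite.Mod O} {m : ℕ} (c : Fin m → (X ⟶ ModSite.unit O)) {W : C}
    (t : Fin m → ModSite.sect M W) (Z : Over W) (x : ModSite.sect X Z.left) :
    ap (O := O.over W) (evHom c t) Z x = ev c t Z.hom x := rfl

lemma ap_restr {X M : ModSite.Mod O} (φ : X ⟶ M) {W : C} (Z : Over W) (x : ModSite.sect X Z.left) :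
    ap (O := O.over W) ((ModSite.restr O W).map φ) Z x = ap φ Z.left x := rfl

lemma hom_ext_ap {X M : ModSite.Mod O} {W : C}
    {φ ψ : (ModSite.restr O W).obj X ⟶ (ModSite.restr O W).obj M}
    (h : ∀ (Z : Over W) (x : ModSite.sect X Z.left), ap (O := O.over W) φ Z x = ap (O := O.over W) ψ Z x) :
    φ = ψ :=
  SheafOfModules.hom_ext (PresheafOfModules.hom_ext fun Z =>
    ModuleCat.hom_ext (LinearMap.ext fun x => h Z.unop x))

theorem exists_homotopy_of_good (a : ℤ) (hEa : ∀ j : ℤ, j < a → IsZero (E.X j)) {W : C} (h : Good α f c a W) :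
    ∃ β : ((ModSite.restr O W).mapHomologicalComplex (ComplexShape.up ℤ)).obj E ⟶
        ((ModSite.restr O W).mapHomologicalComplex (ComplexShape.up ℤ)).obj G,
      Nonempty (Homotopy (β ≫ ((ModSite.restr O W).mapHomologicalComplex (ComplexShape.up ℤ)).map f)
        (((ModSite.restr O W).mapHomologicalComplex (ComplexShape.up ℤ)).map α)) := by
  obtain ⟨p, q, hpq⟩ := h
  have hall : ∀ i, ∀ ⦃W' : C⦄ (g : W' ⟶ W) (x : ModSite.sect (E.X i) W'),
      ap (G.d i (i + 1)) W' (ev (c i) (p i) g x) = ev (c (i + 1)) (p (i + 1)) g (ap (E.d i (i + 1)) W' x) ∧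
      ap (f.f i) W' (ev (c i) (p i) g x) + ap (F.d (i - 1) i) W' (ev (c i) (q i (i - 1)) g x) +
        ev (c (i + 1)) (q (i + 1) i) g (ap (E.d i (i + 1)) W' x) = ap (α.f i) W' x := fun i W' g x => by
    rcases le_or_gt a i with hi | hi
    · exact hpq i hi g x
    · rw [eq_zero_of_isZero (hEa i hi) x]
      simp [ev_zero_arg]
  let β : ((ModSite.restr O W).mapHomologicalComplex (ComplexShape.up ℤ)).obj E ⟶
      ((ModSite.restr O W).mapHomologicalComplex (ComplexShape.up ℤ)).obj G :=
    { f := fun i => evHom (c i) (p i)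
      comm' := fun i j hij => by
        obtain rfl : i + 1 = j := hij
        exact hom_ext_ap fun Z x => (hall i Z.hom x).1 }
  refine ⟨β, ⟨{ hom := fun i j => if j + 1 = i then -evHom (c i) (q i j) else 0
                zero := fun i j hij => if_neg hij
                comm := fun i => ?_ }⟩⟩
  rw [dNext_eq _ (show (ComplexShape.up ℤ).Rel i (i + 1) from rfl),
    prevD_eq _ (show (ComplexShape.up ℤ).Rel (i - 1) i from sub_add_cancel i 1),
    if_pos rfl, if_pos (sub_add_cancel i 1)]
  refine hom_ext_ap fun Z x => ?_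
  show ap (f.f i) Z.left (ev (c i) (p i) Z.hom x) =
    -ev (c (i + 1)) (q (i + 1) i) Z.hom (ap (E.d i (i + 1)) Z.left x) +
      ap (F.d (i - 1) i) Z.left (-ev (c i) (q i (i - 1)) Z.hom x) + ap (α.f i) Z.left x
  rw [← (hall i Z.hom x).2, map_neg]
  abel

/-- A module with identity a finite sum through the structure sheaf. -/
theorem exists_dual_basis {X : ModSite.Mod O} (hX : DCoh.IsFinFreeSummandMod (ModSite.ringSh O) X) :
    ∃ (n : ℕ) (c : Fin n → (X ⟶ ModSite.unit O)) (e : Fin n → (ModSite.unit O ⟶ X)), ∑ l, c l ≫ e l = 𝟙 X := by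
  classical
  obtain ⟨n, i, r, hir⟩ := hX
  refine ⟨n, fun l => i ≫ ModFac.proj (ULift.up l), fun l => SheafOfModules.ιFree (ULift.up l) ≫ r, ?_⟩
  refine (Fintype.sum_equiv Equiv.ulift.symm _ (fun j => i ≫ (ModFac.proj j ≫ SheafOfModules.ιFree j) ≫ r)
    (fun l => by simp only [Category.assoc]; rfl)).trans ?_
  rw [← Preadditive.comp_sum, ← Preadditive.sum_comp, ModFac.sum_proj_ιFree, Category.id_comp, hir]

/-- Maps out of strictly perfect complexes lift locally up to homotopy. -/
theorem exists_local_lift (hE : DCoh.IsStrictlyPerfectMod (ModSite.ringSh O) E) (a : ℤ)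
    (hEa : ∀ j : ℤ, j < a → IsZero (E.X j))
    (hiso : ∀ j : ℤ, a < j → IsIso (HomologicalComplex.homologyMap f j))
    (hepi : Epi (HomologicalComplex.homologyMap f a)) (V : C) :
    ∃ R ∈ J V, ∀ ⦃W : C⦄ (g : W ⟶ V), R g →
      ∃ β : ((ModSite.restr O W).mapHomologicalComplex (ComplexShape.up ℤ)).obj E ⟶
          ((ModSite.restr O W).mapHomologicalComplex (ComplexShape.up ℤ)).obj G,
        Nonempty (Homotopy (β ≫ ((ModSite.restr O W).mapHomologicalComplex (ComplexShape.up ℤ)).map f)
          (((ModSite.restr O W).mapHomologicalComplex (ComplexShape.up ℤ)).map α)) := by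
  obtain ⟨⟨a', b, hab⟩, hs⟩ := hE
  choose m c' e' he' using fun i => exists_dual_basis (hs i)
  obtain ⟨R, hR, h⟩ := exists_good α f c' e' he' a hiso hepi (b := b + 1) (fun i hi => hab i (Or.inr (by lia))) V
  exact ⟨R, hR, fun W g hg => exists_homotopy_of_good α f c' a hEa (h g hg)⟩

end Groth.Agent.StrictLift
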