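import Groth.Agent.H9Misc.SupportsCore
import Groth.Agent.ModTensor.FreeOn
import Groth.Agent.SiteBase.LocalLift
import Mathlib.Algebra.Homology.Refinements

/-!
# Homology of complexes of modules on a site, on local sections
-/

set_option linter.style.haveILetI false
set_option backward.isDefEq.respectTransparency false
set_option backward.isDefEq.respectTransparency.types false

universe u

open CategoryTheory CategoryTheory.Limits Opposite

namespace Groth.Agent.StrictLift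

open Groth.Agent.SuppCore

variable {C : Type u} [SmallCategory C] {J : GrothendieckTopology C} {O : Sheaf J CommRingCat.{u}}

/-- The value of a morphism on sections. -/
noncomputable def ap {M N : ModSite.Mod O} (φ : M ⟶ N) (W : C) : ModSite.sect M W →+ ModSite.sect N W :=
  (φ.val.app (op W)).hom.toAddMonoidHom

lemma ap_comp {M N P : ModSite.Mod O} (φ : M ⟶ N) (ψ : N ⟶ P) (W : C) (x : ModSite.sect M W) :
    ap (φ ≫ ψ) W x = ap ψ W (ap φ W x) := rfl

lemma ap_id {M : ModSite.Mod O} (W : C) (x : ModSite.sect M W) : ap (𝟙 M) W x = x := rfl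

lemma ap_zero {M N : ModSite.Mod O} (W : C) (x : ModSite.sect M W) : ap (0 : M ⟶ N) W x = 0 := rfl

lemma ap_add {M N : ModSite.Mod O} (φ ψ : M ⟶ N) (W : C) (x : ModSite.sect M W) :
    ap (φ + ψ) W x = ap φ W x + ap ψ W x := rfl

lemma ap_neg {M N : ModSite.Mod O} (φ : M ⟶ N) (W : C) (x : ModSite.sect M W) :
    ap (-φ) W x = - ap φ W x := rfl

lemma ap_smul {M N : ModSite.Mod O} (φ : M ⟶ N) (W : C) (r : (ModSite.ringSh O).obj.obj (op W))
    (x : ModSite.sect M W) : ap φ W (r • x) = r • ap φ W x :=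
  map_smul (φ.val.app (op W)).hom r x

lemma res_ap {M N : ModSite.Mod O} (φ : M ⟶ N) {W' W : C} (g : W' ⟶ W) (x : ModSite.sect M W) :
    res N g (ap φ W x) = ap φ W' (res M g x) := res_app φ g x

/-- The generating section of `j_{W!} O_W`. -/
noncomputable def gen (O : Sheaf J CommRingCat.{u}) (W : C) : ModSite.sect (ModSite.freeOn O W) W :=
  (ModTensor.freeOnCorepr O W).homEquiv (𝟙 _)

/-- The morphism given by a section. -/
noncomputable def lam {M : ModSite.Mod O} {W : C} (x : ModSite.sect M W) : ModSite.freeOn O W ⟶ M :=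
  (ModTensor.freeOnCorepr O W).homEquiv.symm x

lemma ap_lam_gen {M : ModSite.Mod O} {W : C} (x : ModSite.sect M W) : ap (lam x) W (gen O W) = x :=
  ((ModTensor.freeOnCorepr O W).homEquiv_eq (lam x)).symm.trans
    ((ModTensor.freeOnCorepr O W).homEquiv.apply_symm_apply x)

lemma hom_ext_gen {M : ModSite.Mod O} {W : C} {φ ψ : ModSite.freeOn O W ⟶ M}
    (h : ap φ W (gen O W) = ap ψ W (gen O W)) : φ = ψ :=
  (ModTensor.freeOnCorepr O W).homEquiv.injective
    (((ModTensor.freeOnCorepr O W).homEquiv_eq φ).trans (h.trans ((ModTensor.freeOnCorepr O W).homEquiv_eq ψ).symm))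

lemma lam_comp_eq_zero {M N : ModSite.Mod O} {W : C} (x : ModSite.sect M W) (φ : M ⟶ N) (h : ap φ W x = 0) :
    lam x ≫ φ = 0 := hom_ext_gen (by rw [ap_comp, ap_lam_gen, h, ap_zero])

variable {F G : CochainComplex (ModSite.Mod O) ℤ} (f : G ⟶ F)

theorem local_of_mono {l m n : ℤ} (hl : l + 1 = m) (hn : m + 1 = n) [Mono (HomologicalComplex.homologyMap f m)]
    {W : C} (u : ModSite.sect (G.X m) W) (w : ModSite.sect (F.X l) W) (hu : ap (G.d m n) W u = 0)
    (hw : ap (f.f m) W u = ap (F.d l m) W w) :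
    ∃ R ∈ J W, ∀ ⦃W' : C⦄ (g : W' ⟶ W), R g →
      ∃ t : ModSite.sect (G.X l) W', ap (G.d l m) W' t = res (G.X m) g u := by
  obtain ⟨A', π, hπ, x₁, hx⟩ := (HomologicalComplex.mono_homologyMap_iff_up_to_refinements (φ := f) l m n
    (by simp; lia) (by simp; lia)).1 inferInstance (lam u) (lam_comp_eq_zero u _ hu) (lam w)
    (hom_ext_gen (by rw [ap_comp, ap_comp, ap_lam_gen, ap_lam_gen, hw]))
  haveI := hπ
  obtain ⟨R, hR, hlift⟩ := exists_cover_lift π (gen O W)
  refine ⟨R, hR, fun W' g hg => ?_⟩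
  obtain ⟨a, ha⟩ := hlift g hg
  have ha' : ap π W' a = res _ g (gen O W) := ha
  exact ⟨ap x₁ W' a, by rw [← ap_comp, ← hx, ap_comp, ha', ← res_ap, ap_lam_gen]⟩

theorem local_of_epi {l m n : ℤ} (hl : l + 1 = m) (hn : m + 1 = n) [Epi (HomologicalComplex.homologyMap f m)]
    {W : C} (w : ModSite.sect (F.X m) W) (hw : ap (F.d m n) W w = 0) :
    ∃ R ∈ J W, ∀ ⦃W' : C⦄ (g : W' ⟶ W), R g →
      ∃ (x : ModSite.sect (G.X m) W') (q : ModSite.sect (F.X l) W'), ap (G.d m n) W' x = 0 ∧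
        ap (f.f m) W' x + ap (F.d l m) W' q = res (F.X m) g w := by
  obtain ⟨A', π, hπ, x₂, hx₂, y₁, hy⟩ := (HomologicalComplex.epi_homologyMap_iff_up_to_refinements (φ := f) l m n
    (by simp; lia) (by simp; lia)).1 inferInstance (lam w) (lam_comp_eq_zero w _ hw)
  haveI := hπ
  obtain ⟨R, hR, hlift⟩ := exists_cover_lift π (gen O W)
  refine ⟨R, hR, fun W' g hg => ?_⟩
  obtain ⟨a, ha⟩ := hlift g hg
  have ha' : ap π W' a = res _ g (gen O W) := ha
  refine ⟨ap x₂ W' a, ap y₁ W' a, by rw [← ap_comp, hx₂, ap_zero], ?_⟩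
  rw [← ap_comp, ← ap_comp, ← ap_add, ← hy, ap_comp, ha', ← res_ap, ap_lam_gen]

/-- The step of the descending induction, on sections. -/
theorem local_step {l m n : ℤ} (hl : l + 1 = m) (hn : m + 1 = n) {o : ℤ} (ho : n + 1 = o)
    [Epi (HomologicalComplex.homologyMap f m)] [Mono (HomologicalComplex.homologyMap f n)]
    {W : C} (u : ModSite.sect (G.X n) W) (w : ModSite.sect (F.X m) W)
    (hu : ap (G.d n o) W u = 0) (hw : ap (f.f n) W u = ap (F.d m n) W w) :
    ∃ R ∈ J W, ∀ ⦃W' : C⦄ (g : W' ⟶ W), R g →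
      ∃ (p : ModSite.sect (G.X m) W') (q : ModSite.sect (F.X l) W'), ap (G.d m n) W' p = res (G.X n) g u ∧
        ap (f.f m) W' p + ap (F.d l m) W' q = res (F.X m) g w := by
  obtain ⟨R₁, hR₁, h₁⟩ := local_of_mono f hn ho u w hu hw
  choose t ht using h₁
  have hcyc : ∀ ⦃W' : C⦄ (g : W' ⟶ W) (hg : R₁ g),
      ap (F.d m n) W' (res (F.X m) g w - ap (f.f m) W' (t g hg)) = 0 := fun W' g hg => by
    rw [map_sub, ← ap_comp, f.comm, ap_comp, ht g hg, ← res_ap, ← res_ap, hw, sub_self]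
  choose R₂ hR₂ h₂ using fun (W' : C) (g : W' ⟶ W) (hg : R₁ g) => local_of_epi f hl hn _ (hcyc g hg)
  refine ⟨Sieve.bind R₁.arrows (fun W' g hg => R₂ W' g hg), J.bind_covering hR₁ (fun W' g hg => hR₂ W' g hg), ?_⟩
  rintro W'' _ ⟨W', g', g, hg, hg', rfl⟩
  obtain ⟨x, q, hx, hq⟩ := h₂ W' g hg g' hg'
  refine ⟨res (G.X m) g' (t g hg) + x, q, ?_, ?_⟩
  · rw [map_add, hx, add_zero, ← res_ap, ht g hg, ← res_comp]
  · rw [map_add, add_assoc, hq, map_sub, ← res_ap, res_comp]
    abel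

end Groth.Agent.StrictLift
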